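import Mathlib
import Cfsg.Agent.Lib.Cls.Basic

/-!
# SQ/Def: small `p`-part of the class sizes of primary `p'`-elements (definitions)
-/

set_option autoImplicit false
set_option linter.unusedSectionVars false

namespace Cfsg.Agent.SQF

open Subgroup

/-- `p²` divides no class size of an element of prime power order prime to `p`. -/
def HP (p : ℕ) (G : Type*) [Group G] : Prop :=
  ∀ x : G, (∃ (r : ℕ) (k : ℕ), r.Prime ∧ r ≠ p ∧ orderOf x = r ^ k) →
    ¬ p ^ 2 ∣ (centralizer ({x} : Set G)).index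

/-- `4` divides no class size of an element of odd prime power order. -/
def H2 (G : Type*) [Group G] : Prop :=
  ∀ x : G, (∃ r k : ℕ, r.Prime ∧ r ≠ 2 ∧ orderOf x = r ^ k) →
    ¬ 2 ^ 2 ∣ (centralizer ({x} : Set G)).index

variable {G : Type*} [Group G] [Finite G] {p : ℕ}

theorem HP.normal (h : HP p G) (N : Subgroup G) [N.Normal] : HP p N := by
  rintro x ⟨r, k, hr, hrp, hx⟩ hd
  exact h x ⟨r, k, hr, hrp, by rw [Subgroup.orderOf_coe, hx]⟩
    (hd.trans (Cls.index_centralizer_normal_dvd x))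

theorem HP.surj {G' : Type*} [Group G'] (h : HP p G) {f : G →* G'}
    (hf : Function.Surjective f) : HP p G' := by
  rintro x ⟨r, k, hr, hrp, hx⟩ hd
  obtain ⟨x, rfl⟩ := hf x
  obtain ⟨u, -, hu, j, hj⟩ := Cls.exists_p_lift hr f x ⟨k, hx⟩
  rw [← hu] at hd
  exact h u ⟨r, j, hr, hrp, hj⟩ (hd.trans (Cls.index_centralizer_map_dvd hf u))

theorem HP.quot (h : HP p G) (N : Subgroup G) [N.Normal] : HP p (G ⧸ N) :=
  h.surj (QuotientGroup.mk'_surjective N)

theorem H2.normal (h : H2 G) (N : Subgroup G) [N.Normal] : H2 N := HP.normal (p := 2) h N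

theorem H2.surj {G' : Type*} [Group G'] (h : H2 G) {f : G →* G'}
    (hf : Function.Surjective f) : H2 G' := HP.surj (p := 2) h hf

theorem H2.quot (h : H2 G) (N : Subgroup G) [N.Normal] : H2 (G ⧸ N) := HP.quot (p := 2) h N

theorem H2.equiv {G' : Type*} [Group G'] (h : H2 G) (e : G ≃* G') : H2 G' :=
  h.surj (f := e.toMonoidHom) e.surjective

end Cfsg.Agent.SQF
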