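import Mathlib
import Cfsg.Agent.Lib.SQ.Def
import Cfsg.Agent.Lib.Cls.SqFree
import Cfsg.Agent.Lib.Cls.Count
import Cfsg.Agent.Lib.Transfer.Basic2
import Cfsg.Agent.Lib.OO.Final

/-!
# SQ/Nilp: small `p`-part of the class sizes of primary `p'`-elements
-/

set_option autoImplicit false
set_option linter.unusedSectionVars false

namespace Cfsg.Agent.SQF

open Subgroup

universe u

section Basic

variable {G : Type*} [Group G] [Finite G] {p : ℕ}

/-- A primary `p'`-element centralises every normal `p`-subgroup. -/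
theorem HP.mem_centralizer [hp : Fact p.Prime] (h : HP p G)
    (hmin : ∀ r : ℕ, r.Prime → r ∣ Nat.card G → p ≤ r) {N : Subgroup G} [N.Normal]
    (hN : IsPGroup p N) {x : G} {r k : ℕ} (hr : r.Prime) (hrp : r ≠ p)
    (hx : orderOf x = r ^ k) : x ∈ centralizer (N : Set G) := by
  have : Fact r.Prime := ⟨hr⟩
  rcases Nat.eq_zero_or_pos k with rfl | hk
  · rw [pow_zero, orderOf_eq_one_iff] at hx
    rw [hx]; exact one_mem _
  have hrG : r ∣ Nat.card G := by
    refine (dvd_pow_self r hk.ne').trans ?_
    rw [← hx]; exact orderOf_dvd_natCard x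
  have hlt : p < r := lt_of_le_of_ne (hmin r hr hrG) (Ne.symm hrp)
  have h1 : (centralizer (zpowers x : Set G)).relIndex N ≡ 1 [MOD r] := by
    refine Cls.relIndex_centralizer_modEq_one (by rw [normalizer_eq_top]; exact le_top)
      (IsPGroup.of_card (n := k) (by rw [Nat.card_zpowers, hx])) fun hd => ?_
    obtain ⟨n, hn⟩ := hN.exists_card_eq
    rw [hn] at hd
    exact hrp ((Nat.prime_dvd_prime_iff_eq hr hp.out).mp (hr.dvd_of_dvd_pow hd))
  rw [Cls.centralizer_zpowers] at h1
  obtain ⟨n, hn⟩ := PGrp.exists_relIndex_eq_pow (H := centralizer ({x} : Set G)) hN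
  have h2 : ¬ p ^ 2 ∣ p ^ n := fun hd => h x ⟨r, k, hr, hrp, hx⟩
    (hd.trans (hn ▸ Cls.relIndex_dvd_index_of_normal' _ N))
  have h3 : n < 2 := by
    by_contra hc
    exact h2 (pow_dvd_pow p (not_lt.mp hc))
  have h4 : n = 0 := by
    by_contra hc
    have : n = 1 := by omega
    rw [hn, this, pow_one] at h1
    have h5 := (Nat.modEq_iff_dvd' hp.out.one_le).mp h1.symm
    have h6 := Nat.le_of_dvd (by have := hp.out.two_le; omega) h5
    omega
  rw [h4, pow_zero, relIndex_eq_one] at hn
  intro a ha
  exact (mem_centralizer_iff.mp (hn ha) x rfl).symm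

end Basic

/-- The solvable case. -/
theorem nilp_of_solvable (p : ℕ) [hp : Fact p.Prime] (G : Type u) [Group G] [Finite G] :
    Group.IsSolvable G → (∀ r : ℕ, r.Prime → r ∣ Nat.card G → p ≤ r) → HP p G →
      HasNormalPComplement p G := by
  refine Core.induction_on_card (P := fun G _ _ => Group.IsSolvable G →
    (∀ r : ℕ, r.Prime → r ∣ Nat.card G → p ≤ r) → HP p G → HasNormalPComplement p G)
    (fun G _ _ ih hs hmin h => ?_) G
  rcases subsingleton_or_nontrivial G with hG | hG
  · exact Transfer.hasNormalPComplement_of_not_dvd (by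
      rw [Nat.card_of_subsingleton (1 : G)]; exact hp.out.not_dvd_one)
  obtain ⟨N, hN⟩ := Core.exists_isMinNormal (G := G)
  have := hN.normal
  have hq : HasNormalPComplement p (G ⧸ N) :=
    ih _ (Core.card_quotient_lt hN.ne_bot) inferInstance
      (fun r hr hd => hmin r hr (hd.trans (card_quotient_dvd_card N))) (h.quot N)
  obtain ⟨r, hr, hE⟩ := hN.exists_isElementaryAbelian inferInstance
  have : Fact r.Prime := ⟨hr⟩
  have hNr := Core.isPGroup_of_isElementaryAbelian hE
  by_cases hrp : r = p
  swap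
  · refine Transfer.hasNormalPComplement_of_quotient_coprime N ?_ hq
    obtain ⟨n, hn⟩ := hNr.exists_card_eq
    rw [hn]
    exact Nat.Coprime.pow_left n ((Nat.coprime_primes hr hp.out).mpr hrp)
  subst hrp
  obtain ⟨K', hK', hc, hpq⟩ := Transfer.hasNormalPComplement_iff_exists_normal.mp hq
  set K := K'.comap (QuotientGroup.mk' N) with hK
  have hNK : N ≤ K := Core.le_comap_mk _ _
  have hKC : K ≤ centralizer (N : Set G) := by
    intro x hx
    refine Cls.mem_of_forall_prime_pow fun q hq' u hu ⟨k, hk⟩ => ?_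
    by_cases hqr : q = r
    · subst hqr
      have huK : u ∈ K := zpowers_le.mpr hx hu
      have h1 : orderOf (QuotientGroup.mk' N u) ∣ Nat.card K' :=
        Subgroup.orderOf_dvd_natCard _ huK
      have h2 : orderOf (QuotientGroup.mk' N u) ∣ q ^ k := hk ▸ orderOf_map_dvd _ u
      have h3 : orderOf (QuotientGroup.mk' N u) = 1 :=
        Nat.eq_one_of_dvd_coprimes (Nat.Coprime.pow_right k hc) h1 h2
      have h4 : u ∈ N := (QuotientGroup.eq_one_iff u).mp (orderOf_eq_one_iff.mp h3)
      exact fun a ha => Core.mul_comm_of_mem_of_isMulCommutative hE.1 ha h4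
    · exact h.mem_centralizer hmin hNr hq' hqr hk
  have hKn : HasNormalPComplement r K := by
    refine Transfer.hasNormalPComplement_of_ker_le_center
      ((QuotientGroup.mk' N).subgroupComap K') ?_
      (Transfer.hasNormalPComplement_of_not_dvd ((Nat.Prime.coprime_iff_not_dvd hr).mp hc.symm))
    intro a ha
    have h1 : (a : G) ∈ N := (QuotientGroup.eq_one_iff _).mp (congrArg Subtype.val ha)
    rw [mem_center_iff]
    intro b
    exact Subtype.ext (hKC b.2 a h1).symm
  refine Transfer.hasNormalPComplement_of_normal_of_isPGroup_quotient K ?_ hKn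
  obtain ⟨n, hn⟩ := hpq.exists_card_eq
  refine IsPGroup.of_card (n := n) ?_
  rw [← hn]
  exact index_comap_of_surjective K' (QuotientGroup.mk'_surjective N)

theorem solvable_of_simple
    (hs : ∀ (S : Type u) [Group S] [Finite S] [IsSimpleGroup S], ¬ IsMulCommutative S → H2 S →
      False) (G : Type u) [Group G] [Finite G] : H2 G → Group.IsSolvable G := by
  refine Core.induction_on_card (P := fun G _ _ => H2 G → Group.IsSolvable G)
    (fun G _ _ ih h => ?_) G
  rcases subsingleton_or_nontrivial G with hG | hG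
  · infer_instance
  by_cases hsim : IsSimpleGroup G
  · by_cases hc : IsMulCommutative G
    · exact Group.isSolvable_of_comm fun a b => hc.is_comm.comm a b
    · exact (hs G hc h).elim
  obtain ⟨N, hN, h1, h2⟩ : ∃ N : Subgroup G, N.Normal ∧ N ≠ ⊥ ∧ N ≠ ⊤ := by
    by_contra hc
    push Not at hc
    exact hsim ⟨fun N hN => or_iff_not_imp_left.mpr (hc N hN)⟩
  have i1 := ih N (Core.card_lt_of_ne_top h2) (h.normal N)
  have i2 := ih _ (Core.card_quotient_lt h1) (h.quot N)
  exact Group.isSolvable_of_ker_le_range N.subtype (QuotientGroup.mk' N) (by simp)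

/-- The statement of S4131 from the simple case with `p = 2`. -/
theorem s4131_of
    (hs : ∀ (S : Type u) [Group S] [Finite S] [IsSimpleGroup S], ¬ IsMulCommutative S → H2 S →
      False) {G : Type u} [Group G] [Finite G] (p : ℕ) [hp : Fact p.Prime]
    (hmin : ∀ r : ℕ, r.Prime → r ∣ Nat.card G → p ≤ r)
    (h : ∀ x : G, (∃ (r : ℕ) (k : ℕ), r.Prime ∧ r ≠ p ∧ orderOf x = r ^ k) →
      ¬ p ^ 2 ∣ (Subgroup.centralizer ({x} : Set G)).index) :
    HasNormalPComplement p G ∧ Group.IsSolvable G := by
  have hsol : Group.IsSolvable G := by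
    by_cases h2 : p = 2
    · subst h2
      exact solvable_of_simple hs G h
    · refine OO.Feit_Thompson (Nat.not_even_iff_odd.mp fun he => ?_)
      have h3 := hmin 2 Nat.prime_two (even_iff_two_dvd.mp he)
      have := hp.out.two_le
      omega
  exact ⟨nilp_of_solvable p G hsol hmin h, hsol⟩

end Cfsg.Agent.SQF
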