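import Mathlib
import Cfsg.Agent.Lib.SQ.Nilp
import Cfsg.Agent.Lib.Cls.NilpHall

/-!
# SQ/Super: square-free class sizes of primary elements
-/

set_option autoImplicit false
set_option linter.unusedSectionVars false

namespace Cfsg.Agent.SQF

open Subgroup
open scoped commutatorElement

universe u

/-- Every element of prime power order has a class of square-free size. -/
def Sq (G : Type*) [Group G] : Prop :=
  ∀ x : G, (∃ (r : ℕ) (k : ℕ), r.Prime ∧ orderOf x = r ^ k) →
    Squarefree (centralizer ({x} : Set G)).index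

section Basic

variable {G : Type*} [Group G] [Finite G]

theorem Sq.normal (h : Sq G) (N : Subgroup G) [N.Normal] : Sq N := by
  rintro x ⟨r, k, hr, hx⟩
  exact (h x ⟨r, k, hr, by rw [Subgroup.orderOf_coe, hx]⟩).squarefree_of_dvd
    (Cls.index_centralizer_normal_dvd x)

theorem Sq.quot (h : Sq G) (N : Subgroup G) [N.Normal] : Sq (G ⧸ N) := by
  rintro x ⟨r, k, hr, hx⟩
  obtain ⟨x, rfl⟩ := QuotientGroup.mk'_surjective N x
  obtain ⟨u, -, hu, j, hj⟩ := Cls.exists_p_lift hr _ x ⟨k, hx⟩
  rw [← hu]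
  exact (h u ⟨r, j, hr, hj⟩).squarefree_of_dvd (Cls.index_centralizer_mk_dvd N u)

theorem Sq.hp (h : Sq G) {p : ℕ} (hp : p.Prime) : HP p G := by
  rintro x ⟨r, k, hr, -, hx⟩ hd
  exact hp.ne_one (Nat.isUnit_iff.mp (h x ⟨r, k, hr, hx⟩ p (by rwa [← sq])))

/-- In a nilpotent group all class sizes are then square-free. -/
theorem Sq.all_of_nilpotent [Group.IsNilpotent G] (h : Sq G) (x : G) :
    Squarefree (centralizer ({x} : Set G)).index := by
  rw [Nat.squarefree_iff_prime_squarefree]
  intro p hp hd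
  have : Fact p.Prime := ⟨hp⟩
  obtain ⟨P⟩ : Nonempty (Sylow p G) := inferInstance
  have : (P : Subgroup G).Normal := Core.isNilpotent_iff_sylow_normal.mp inferInstance p this P
  obtain ⟨u, hu, v, hv, e, ⟨k, hk⟩, hvp⟩ := Cls.exists_p_part hp x
  have h1 := Cls.relIndex_dvd_prime P.isPGroup' (h u ⟨p, k, hp, hk⟩)
  have h2 : centralizer ({u} : Set G) ⊓ P = centralizer ({x} : Set G) ⊓ P := by
    refine le_antisymm (fun a ha => ⟨?_, ha.2⟩)
      (inf_le_inf_right _ (Cls.centralizer_single_le_of_mem_zpowers hu))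
    obtain ⟨j, hj⟩ := (IsPGroup.iff_orderOf.mp P.isPGroup') ⟨a, ha.2⟩
    rw [← Subgroup.orderOf_coe] at hj
    have h3 : Commute a v := Cls.commute_of_coprime_of_isNilpotent (by
      simp only at hj
      rw [hj]; exact Nat.Coprime.pow_left j hvp.symm)
    have h4 : Commute a u := Cls.mem_centralizer_single_commute.mp ha.1
    exact Cls.mem_centralizer_single_commute.mpr (e ▸ h4.mul_right h3)
  have h3 : (centralizer ({x} : Set G)).relIndex P ∣ p := by
    rwa [← inf_relIndex_right, ← h2, inf_relIndex_right]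
  have e1 := relIndex_mul_index (inf_le_right : centralizer ({x} : Set G) ⊓ P ≤ P)
  have e2 := relIndex_mul_index (inf_le_left : centralizer ({x} : Set G) ⊓ P ≤ _)
  rw [inf_relIndex_right] at e1
  have h4 : p * p ∣ p * (P : Subgroup G).index :=
    (hd.trans (Dvd.intro_left _ (e2.trans e1.symm))).trans (Nat.mul_dvd_mul_right h3 _)
  exact P.not_dvd_index (Nat.dvd_of_mul_dvd_mul_left hp.pos h4)

theorem eq_of_le_of_relIndex {p : ℕ} (hp : p.Prime) {N A B : Subgroup G} (hA : A.relIndex N ∣ p)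
    (hB : ¬ N ≤ B) (h : N ⊓ A ≤ B) : N ⊓ A = N ⊓ B := by
  have : Fact p.Prime := ⟨hp⟩
  have h1 : A ⊓ N ≤ B ⊓ N := fun a ha => ⟨h ⟨ha.2, ha.1⟩, ha.2⟩
  have e := relIndex_mul_relIndex _ _ _ h1 (inf_le_right : B ⊓ N ≤ N)
  rw [inf_relIndex_right A, inf_relIndex_right B] at e
  have h2 : B.relIndex N ∣ p := (Dvd.intro_left _ e).trans hA
  have h3 : B.relIndex N = p :=
    ((Nat.dvd_prime hp).mp h2).resolve_left fun h => hB (relIndex_eq_one.mp h)
  rw [h3] at e
  have h4 : (A ⊓ N).relIndex (B ⊓ N) = 1 := by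
    rw [← e] at hA
    exact Nat.dvd_one.mp (Nat.dvd_of_mul_dvd_mul_right hp.pos (by rwa [one_mul]))
  rw [inf_comm N, inf_comm N]
  exact le_antisymm h1 (relIndex_eq_one.mp h4)

theorem eq_one_of_conj_eq_mul {y u d : G} {m n : ℕ} (hy : y ^ m = 1) (hd : d ^ n = 1)
    (hmn : m.Coprime n) (hc : Commute y d) (e : y * u * y⁻¹ = u * d) : d = 1 := by
  have h1 : ∀ j : ℕ, y ^ j * u * (y ^ j)⁻¹ = u * d ^ j := by
    intro j
    induction j with
    | zero => simp
    | succ j ih =>
      calc y ^ (j + 1) * u * (y ^ (j + 1))⁻¹ = y * (y ^ j * u * (y ^ j)⁻¹) * y⁻¹ := by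
            rw [pow_succ']; group
        _ = (y * u * y⁻¹) * (y * d ^ j * y⁻¹) := by rw [ih]; group
        _ = u * d ^ (j + 1) := by
            rw [e, (hc.pow_right j).eq, pow_succ']; group
  have h2 := h1 m
  rw [hy] at h2
  have h3 : d ^ m = 1 := by simpa using h2.symm
  exact orderOf_eq_one_iff.mp (Nat.eq_one_of_dvd_coprimes hmn (orderOf_dvd_of_pow_eq_one h3)
    (orderOf_dvd_of_pow_eq_one hd))

/-- A minimal normal subgroup has prime order. -/
theorem Sq.prime_card [Group.IsSolvable G] (h : Sq G) {N : Subgroup G} [N.Normal]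
    (hN : Core.IsMinNormal N) : (Nat.card N).Prime := by
  obtain ⟨p, hp, hE⟩ := hN.exists_isElementaryAbelian inferInstance
  have : Fact p.Prime := ⟨hp⟩
  have hNp := Core.isPGroup_of_isElementaryAbelian hE
  have hcomm : ∀ a ∈ N, ∀ b ∈ N, a * b = b * a := fun a ha b hb =>
    Core.mul_comm_of_mem_of_isMulCommutative hE.1 ha hb
  by_cases hC : centralizer (N : Set G) = ⊤
  · exact hN.prime_card_of_le_center (centralizer_eq_top_iff_subset.mp hC)
  set C := centralizer (N : Set G) with hCdef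
  have : Nontrivial (G ⧸ C) := QuotientGroup.nontrivial_iff.mpr hC
  obtain ⟨M', hM'⟩ := Core.exists_isMinNormal (G := G ⧸ C)
  have := hM'.normal
  obtain ⟨q, hq, hE'⟩ := hM'.exists_isElementaryAbelian inferInstance
  have : Fact q.Prime := ⟨hq⟩
  set π := QuotientGroup.mk' C with hπ
  set M := M'.comap π with hM
  -- centralisers in `N` depend only on the class modulo `C`
  have hcl : ∀ x y : G, π x = π y →
      N ⊓ centralizer ({x} : Set G) ≤ centralizer ({y} : Set G) := by
    intro x y e a ha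
    have h1 : x⁻¹ * y ∈ C := QuotientGroup.eq.mp e
    have h2 := Cls.mem_centralizer_single.mp ha.2
    have h3 := h1 a ha.1
    refine Cls.mem_centralizer_single.mpr ?_
    calc a * y = a * x * (x⁻¹ * y) := by group
      _ = x * (a * (x⁻¹ * y)) := by rw [h2]; group
      _ = y * a := by rw [h3]; group
  have hlift : ∀ x ∈ M, ∃ u, π u = π x ∧ ∃ k, orderOf u = q ^ k := by
    intro x hx
    obtain ⟨k, hk⟩ := (IsPGroup.iff_orderOf.mp (Core.isPGroup_of_isElementaryAbelian hE')) ⟨_, hx⟩
    rw [← Subgroup.orderOf_coe] at hk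
    obtain ⟨u, -, hu, hk⟩ := Cls.exists_p_lift hq π x ⟨k, hk⟩
    exact ⟨u, hu, hk⟩
  have hidx : ∀ x ∈ M, (centralizer ({x} : Set G)).relIndex N ∣ p := by
    intro x hx
    obtain ⟨u, hu, k, hk⟩ := hlift x hx
    have h1 := Cls.relIndex_dvd_prime hNp (h u ⟨q, k, hq, hk⟩)
    have h2 : centralizer ({u} : Set G) ⊓ N = centralizer ({x} : Set G) ⊓ N :=
      le_antisymm (fun a ha => ⟨hcl u x hu ⟨ha.2, ha.1⟩, ha.2⟩)
        (fun a ha => ⟨hcl x u hu.symm ⟨ha.2, ha.1⟩, ha.2⟩)
    rwa [← inf_relIndex_right, h2, inf_relIndex_right] at h1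
  have hnC : ∀ x, x ∉ C → ¬ N ≤ centralizer ({x} : Set G) := fun x hx hle =>
    hx (Cls.le_centralizer_single_iff.mp hle)
  have hconj : ∀ x g a : G, a ∈ centralizer ({x} : Set G) →
      g * a * g⁻¹ ∈ centralizer ({g * x * g⁻¹} : Set G) := by
    intro x g a ha
    have h1 := Cls.mem_centralizer_single.mp ha
    refine Cls.mem_centralizer_single.mpr ?_
    calc g * a * g⁻¹ * (g * x * g⁻¹) = g * (a * x) * g⁻¹ := by group
      _ = _ := by rw [h1]; group
  have hinv : ∀ x ∈ M, ∀ y ∈ M, ∀ a ∈ N ⊓ centralizer ({x} : Set G),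
      y * a * y⁻¹ ∈ centralizer ({x} : Set G) := by
    intro x hx y hy a ha
    refine hcl (y * x * y⁻¹) x ?_ ⟨‹N.Normal›.conj_mem a ha.1 y, hconj x y a ha.2⟩
    rw [map_mul, map_mul, Core.mul_comm_of_mem_of_isMulCommutative hE'.1 hy hx, map_inv,
      mul_inv_cancel_right]
  have hqp : q ≠ p := by
    rintro rfl
    obtain ⟨P⟩ : Nonempty (Sylow q M) := inferInstance
    have hP : IsPGroup q ((P : Subgroup M).map M.subtype) := P.isPGroup'.map _
    have h1 := PGrp.inf_centralizer_ne_bot hP hNp (by rw [normalizer_eq_top]; exact le_top)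
      hN.ne_bot
    have h2 : N ⊓ centralizer (((P : Subgroup M).map M.subtype : Subgroup G) : Set G) ≤
        centralizer (M : Set G) := by
      intro a ha x hx
      obtain ⟨u, hu, k, hk⟩ := hlift x hx
      have huM : u ∈ M := by
        change π u ∈ M'
        rw [hu]; exact hx
      obtain ⟨g, hg⟩ := Cls.exists_conj_mem_sylow P (x := ⟨u, huM⟩)
        ⟨k, by rw [← Subgroup.orderOf_coe, hk]⟩
      have h3 : a ∈ centralizer ({(g : G)⁻¹ * u * g} : Set G) :=
        Cls.mem_centralizer_single.mpr (ha.2 _ ⟨_, hg, rfl⟩).symm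
      have h4 := hcl _ x (by
        rw [map_mul, map_mul, hu, mul_assoc,
          Core.mul_comm_of_mem_of_isMulCommutative hE'.1 hx g.2, map_inv,
          inv_mul_cancel_left]) ⟨ha.1, h3⟩
      exact (Cls.mem_centralizer_single.mp h4).symm
    have h5 : N ≤ centralizer (M : Set G) := hN.le_of_inf_ne_bot fun e =>
      h1 (le_bot_iff.mp (e ▸ le_inf inf_le_left h2))
    refine hM'.ne_bot (le_bot_iff.mp fun z hz => ?_)
    obtain ⟨z, rfl⟩ := QuotientGroup.mk'_surjective C z
    exact (QuotientGroup.eq_one_iff z).mpr (le_centralizer_iff.mp h5 hz)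
  -- all hyperplanes coincide
  have key : ∀ x ∈ M, ∀ y ∈ M, x ∉ C → y ∉ C →
      N ⊓ centralizer ({x} : Set G) = N ⊓ centralizer ({y} : Set G) := by
    intro x hx y hy hxC hyC
    by_contra hne
    have hs : ∀ x ∈ M, ∀ y ∈ M, ∀ u ∈ N ⊓ centralizer ({x} : Set G),
        u⁻¹ * (y * u * y⁻¹) ∈ centralizer ({y} : Set G) → u ∈ centralizer ({y} : Set G) := by
      intro x hx y hy u hu hd
      obtain ⟨w, hw, k, hk⟩ := hlift y hy
      have hdN : u⁻¹ * (y * u * y⁻¹) ∈ N :=
        mul_mem (inv_mem hu.1) (‹N.Normal›.conj_mem u hu.1 y)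
      have h1 : y⁻¹ * w ∈ C := QuotientGroup.eq.mp hw.symm
      have h2 : w * u * w⁻¹ = y * u * y⁻¹ := by
        calc w * u * w⁻¹ = y * ((y⁻¹ * w) * u) * w⁻¹ := by group
          _ = _ := by rw [← h1 u hu.1]; group
      have h3 : u⁻¹ * (y * u * y⁻¹) = 1 :=
        eq_one_of_conj_eq_mul (y := w) (u := u) (m := q ^ k) (n := p)
          (by rw [← hk, pow_orderOf_eq_one]) (hE.2 _ hdN)
          (Nat.Coprime.pow_left k ((Nat.coprime_primes hq hp).mpr hqp))
          (Cls.mem_centralizer_single_commute.mp (hcl y w hw.symm ⟨hdN, hd⟩)).symm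
          (by rw [h2]; group)
      refine Cls.mem_centralizer_single.mpr ?_
      calc u * y = u * (u⁻¹ * (y * u * y⁻¹)) * y := by rw [h3, mul_one]
        _ = y * u := by group
    have hsup : N ≤ (N ⊓ centralizer ({x} : Set G)) ⊔ (N ⊓ centralizer ({y} : Set G)) := by
      by_contra hc
      have h1 := eq_of_le_of_relIndex hp (hidx x hx) hc le_sup_left
      have h2 := eq_of_le_of_relIndex hp (hidx y hy) hc le_sup_right
      exact hne (h1.trans h2.symm)
    have hdec : ∀ a ∈ N, ∃ u ∈ N ⊓ centralizer ({x} : Set G),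
        ∃ v ∈ N ⊓ centralizer ({y} : Set G), u * v = a := by
      intro a ha
      have h1 := hsup ha
      rw [sup_eq_closure] at h1
      clear ha
      induction h1 using closure_induction with
      | mem z hz =>
        rcases hz with hz | hz
        · exact ⟨z, hz, 1, one_mem _, mul_one z⟩
        · exact ⟨1, one_mem _, z, hz, one_mul z⟩
      | one => exact ⟨1, one_mem _, 1, one_mem _, mul_one 1⟩
      | mul a b _ _ ha hb =>
        obtain ⟨u, hu, v, hv, rfl⟩ := ha
        obtain ⟨u', hu', v', hv', rfl⟩ := hb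
        refine ⟨u * u', mul_mem hu hu', v * v', mul_mem hv hv', ?_⟩
        calc u * u' * (v * v') = u * (u' * v) * v' := by group
          _ = _ := by rw [hcomm u' hu'.1 v hv.1]; group
      | inv a _ ha =>
        obtain ⟨u, hu, v, hv, rfl⟩ := ha
        refine ⟨u⁻¹, inv_mem hu, v⁻¹, inv_mem hv, ?_⟩
        rw [hcomm u hu.1 v hv.1, mul_inv_rev]
    have hz : N ⊓ centralizer ({x * y} : Set G) ≤
        centralizer ({x} : Set G) ⊓ centralizer ({y} : Set G) := by
      intro a ha
      obtain ⟨u, hu, v, hv, rfl⟩ := hdec a ha.1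
      have h1 := Cls.mem_centralizer_single.mp ha.2
      have h2 := Cls.mem_centralizer_single.mp hv.2
      have h3 := Cls.mem_centralizer_single.mp (hinv x hx y hy u hu)
      have h4 : u⁻¹ * (y * u * y⁻¹) = (v⁻¹ * (x * v * x⁻¹))⁻¹ := by
        have h5 := hcomm _ (‹N.Normal›.conj_mem v hv.1 x) _ (inv_mem hv.1)
        rw [← h5]
        calc u⁻¹ * (y * u * y⁻¹) = u⁻¹ * (y * u * y⁻¹ * x) * x⁻¹ := by group
          _ = u⁻¹ * (x * y * (u * v)) * (v⁻¹ * y⁻¹) * x⁻¹ := by rw [h3]; group
          _ = v * x * (y * (y * v)⁻¹) * x⁻¹ := by rw [← h1]; group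
          _ = _ := by rw [← h2]; group
      have h6 : u⁻¹ * (y * u * y⁻¹) ∈ centralizer ({x} : Set G) :=
        mul_mem (inv_mem hu.2) (hinv x hx y hy u hu)
      have h7 : v⁻¹ * (x * v * x⁻¹) ∈ centralizer ({y} : Set G) :=
        mul_mem (inv_mem hv.2) (hinv y hy x hx v hv)
      have h8 := hs x hx y hy u hu (h4 ▸ inv_mem h7)
      have h9 := hs y hy x hx v hv (by rw [h4] at h6; exact inv_mem_iff.mp h6)
      exact ⟨mul_mem hu.2 h9, mul_mem h8 hv.2⟩
    have e1 := eq_of_le_of_relIndex hp (hidx _ (mul_mem hx hy)) (hnC x hxC)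
      (hz.trans inf_le_left)
    have e2 := eq_of_le_of_relIndex hp (hidx _ (mul_mem hx hy)) (hnC y hyC)
      (hz.trans inf_le_right)
    exact hne (e1.symm.trans e2)
  obtain ⟨z, hz, hz1⟩ := (Subgroup.bot_or_exists_ne_one M').resolve_left hM'.ne_bot
  obtain ⟨x, rfl⟩ := QuotientGroup.mk'_surjective C z
  have hxC : x ∉ C := fun h => hz1 ((QuotientGroup.eq_one_iff x).mpr h)
  have hxM : x ∈ M := hz
  have hn : (N ⊓ centralizer ({x} : Set G)).Normal := by
    refine ⟨fun a ha g => ?_⟩
    rw [key x hxM (g * x * g⁻¹) ((inferInstance : M.Normal).conj_mem x hxM g) hxC fun h =>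
      hxC ((inferInstance : C.Normal).mem_comm_iff.mp (by
        have := (inferInstance : C.Normal).conj_mem _ h g⁻¹
        simpa [mul_assoc] using this) |> fun h : 1 * x ∈ C => by simpa using h)]
    exact ⟨‹N.Normal›.conj_mem a ha.1 g, hconj x g a ha.2⟩
  have hb : N ⊓ centralizer ({x} : Set G) = ⊥ := hN.eq_bot_of_lt
    (lt_of_le_of_ne inf_le_left fun e => hnC x hxC (inf_eq_left.mp e))
  have h2 := hidx x hxM
  have h3 := Core.card_inf_mul_relIndex (centralizer ({x} : Set G)) N
  rw [inf_comm, hb, card_bot, one_mul] at h3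
  rw [h3] at h2
  rwa [((Nat.dvd_prime hp).mp h2).resolve_left (by rw [card_eq_one]; exact hN.ne_bot)]

end Basic

theorem Sq.isSupersolvable (G : Type u) [Group G] [Finite G] :
    Group.IsSolvable G → Sq G → IsSupersolvable G := by
  refine Core.induction_on_card (P := fun G _ _ => Group.IsSolvable G → Sq G →
    IsSupersolvable G) (fun G _ _ ih hs h => ?_) G
  rcases subsingleton_or_nontrivial G with hG | hG
  · exact ⟨0, fun _ => ⊥, rfl, Subsingleton.elim _ _, fun _ => normal_bot, fun i => i.elim0⟩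
  obtain ⟨N, hN⟩ := Core.exists_isMinNormal (G := G)
  have := hN.normal
  have hp := h.prime_card hN
  have : Fact (Nat.card N).Prime := ⟨hp⟩
  have hc : IsCyclic N := isCyclic_of_prime_card rfl
  obtain ⟨z, rfl⟩ := (Subgroup.isCyclic_iff_exists_zpowers_eq_top _).mp hc
  exact Cls.isSupersolvable_of_quotient_zpowers
    (ih _ (Core.card_quotient_lt hN.ne_bot) inferInstance (h.quot _))

/-- Generated by the commutators and the `q`-th powers of the `q`-elements. -/
def TT (G : Type*) [Group G] : Subgroup G :=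
  commutator G ⊔ closure {y | ∃ (x : G) (q k : ℕ), q.Prime ∧ orderOf x = q ^ k ∧ y = x ^ q}

theorem Sq.isNilpotent_TT (G : Type u) [Group G] [Finite G] :
    Group.IsSolvable G → Sq G → Group.IsNilpotent (TT G) := by
  refine Core.induction_on_card (P := fun G _ _ => Group.IsSolvable G → Sq G →
    Group.IsNilpotent (TT G)) (fun G _ _ ih hs h => ?_) G
  rcases subsingleton_or_nontrivial G with hG | hG
  · infer_instance
  obtain ⟨N, hN⟩ := Core.exists_isMinNormal (G := G)
  have := hN.normal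
  have hp := h.prime_card hN
  have : Fact (Nat.card N).Prime := ⟨hp⟩
  have hc : IsCyclic N := isCyclic_of_prime_card rfl
  have i1 := ih _ (Core.card_quotient_lt hN.ne_bot) inferInstance (h.quot N)
  have h1 : TT G ≤ centralizer (N : Set G) := by
    refine sup_le (Schur.commutator_le_centralizer_of_isCyclic N) ((closure_le _).mpr ?_)
    rintro _ ⟨x, q, k, hq, hx, rfl⟩
    obtain ⟨z, hz⟩ := (Subgroup.isCyclic_iff_exists_zpowers_eq_top _).mp hc
    have h2 : Squarefree (centralizer (N : Set G)).index := by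
      rw [← hz, Cls.centralizer_zpowers]
      exact h z ⟨_, 1, hp, by rw [pow_one, ← hz, Nat.card_zpowers]⟩
    have h3 : orderOf (QuotientGroup.mk' (centralizer (N : Set G)) x) ∣ q ^ k :=
      hx ▸ orderOf_map_dvd _ x
    obtain ⟨j, -, hj⟩ := (Nat.dvd_prime_pow hq).mp h3
    have h4 : Squarefree (q ^ j) := h2.squarefree_of_dvd (hj ▸ orderOf_dvd_natCard _)
    have h5 : q ^ j ∣ q := by
      rcases Nat.eq_zero_or_pos j with rfl | h0
      · simp
      · rw [((Nat.squarefree_pow_iff hq.ne_one h0.ne').mp h4).2, pow_one]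
    rw [← hj, orderOf_dvd_iff_pow_eq_one, ← map_pow] at h5
    exact (QuotientGroup.eq_one_iff _).mp h5
  have h2 : TT G ≤ (TT (G ⧸ N)).comap (QuotientGroup.mk' N) := by
    refine sup_le ?_ ((closure_le _).mpr ?_)
    · rw [← map_le_iff_le_comap, ← Cls.commutator_quotient]
      exact le_sup_left
    · rintro _ ⟨x, q, k, hq, hx, rfl⟩
      have h3 : orderOf (QuotientGroup.mk' N x) ∣ q ^ k := hx ▸ orderOf_map_dvd _ x
      obtain ⟨j, -, hj⟩ := (Nat.dvd_prime_pow hq).mp h3
      exact mem_sup_right (subset_closure ⟨_, q, j, hq, hj, map_pow _ _ _⟩)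
  refine Subgroup.isNilpotent_of_ker_le_center
    (((QuotientGroup.mk' N).comp (TT G).subtype).codRestrict (TT (G ⧸ N)) fun a => h2 a.2)
    (fun a ha => ?_)
  have h3 : (a : G) ∈ N := (QuotientGroup.eq_one_iff _).mp (congrArg Subtype.val ha)
  rw [mem_center_iff]
  intro b
  exact Subtype.ext (h1 b.2 a h3).symm

/-- The statement of S4132 for solvable groups. -/
theorem s4132_of {G : Type u} [Group G] [Finite G] (hs : Group.IsSolvable G)
    (h : ∀ x : G, (∃ (r : ℕ) (k : ℕ), r.Prime ∧ orderOf x = r ^ k) →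
      Squarefree (Subgroup.centralizer ({x} : Set G)).index) :
    IsSupersolvable G ∧ derivedSeries G 3 = ⊥ ∧
    (∀ _h : (fittingSubgroup G).Normal, IsMulCommutative (G ⧸ fittingSubgroup G) ∧
      Squarefree (Monoid.exponent (G ⧸ fittingSubgroup G))) ∧
    Squarefree (Nat.card (commutator ↥(fittingSubgroup G))) := by
  have : (TT G).Normal := PGrp.normal_of_commutator_le le_sup_left
  have hT : TT G ≤ fittingSubgroup G := Core.le_fitting (Sq.isNilpotent_TT G hs h)
  have hF := Core.isNilpotent_fitting (G := G)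
  obtain ⟨hc, hq⟩ := Cls.isCyclic_commutator_of_squarefree (fittingSubgroup G) inferInstance
    (Sq.normal h _).all_of_nilpotent
  have h1 : commutator G ≤ fittingSubgroup G := le_sup_left.trans hT
  refine ⟨Sq.isSupersolvable G hs h, ?_, fun _ => ⟨PGrp.isMulCommutative_quotient_iff.mpr h1, ?_⟩,
    hq⟩
  · have h2 : derivedSeries G 2 ≤
        (commutator (fittingSubgroup G)).map (fittingSubgroup G).subtype := by
      rw [map_subtype_commutator]
      exact commutator_mono h1 h1
    have h3 := Cls.isCyclic_map (fittingSubgroup G).subtype hc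
    have h4 : IsMulCommutative
        ((commutator (fittingSubgroup G)).map (fittingSubgroup G).subtype) := inferInstance
    rw [derivedSeries_succ, commutator_eq_bot_iff_le_centralizer]
    exact fun a ha b hb => Core.mul_comm_of_mem_of_isMulCommutative h4 (h2 hb) (h2 ha)
  · rw [Nat.squarefree_iff_factorization_le_one Monoid.exponent_ne_zero_of_finite]
    intro q
    by_cases hq' : q.Prime
    swap
    · rw [Nat.factorization_eq_zero_of_not_prime _ hq']; exact zero_le_one
    obtain ⟨g, hg⟩ := hq'.exists_orderOf_eq_pow_factorization_exponent (G ⧸ fittingSubgroup G)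
    obtain ⟨x, rfl⟩ := QuotientGroup.mk'_surjective _ g
    obtain ⟨u, -, hu, k, hk⟩ := Cls.exists_p_lift hq' _ x ⟨_, hg⟩
    have h2 : u ^ q ∈ fittingSubgroup G :=
      hT (mem_sup_right (subset_closure ⟨u, q, k, hq', hk, rfl⟩))
    have h3 : orderOf (QuotientGroup.mk' (fittingSubgroup G) x) ∣ q ^ 1 := by
      rw [pow_one, orderOf_dvd_iff_pow_eq_one, ← hu, ← map_pow]
      exact (QuotientGroup.eq_one_iff _).mpr h2
    rw [hg] at h3
    exact (Nat.pow_dvd_pow_iff_le_right hq'.one_lt).mp h3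

/-- The statement of S4132 from the simple case. -/
theorem s4132_of_simple
    (hs : ∀ (S : Type u) [Group S] [Finite S] [IsSimpleGroup S], ¬ IsMulCommutative S → H2 S →
      False) {G : Type u} [Group G] [Finite G]
    (h : ∀ x : G, (∃ (r : ℕ) (k : ℕ), r.Prime ∧ orderOf x = r ^ k) →
      Squarefree (Subgroup.centralizer ({x} : Set G)).index) :
    IsSupersolvable G ∧ derivedSeries G 3 = ⊥ ∧
    (∀ _h : (fittingSubgroup G).Normal, IsMulCommutative (G ⧸ fittingSubgroup G) ∧
      Squarefree (Monoid.exponent (G ⧸ fittingSubgroup G))) ∧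
    Squarefree (Nat.card (commutator ↥(fittingSubgroup G))) :=
  s4132_of (solvable_of_simple hs G (Sq.hp h Nat.prime_two)) h

end Cfsg.Agent.SQF
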